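import Cfsg.Agent.LX.Simple
import Cfsg.Agent.LX.Pair

/-! Simplicity of the layer for a large extraspecial subgroup. -/

set_option autoImplicit false

namespace CF.WX

open Cfsg Subgroup CF.Loc CF.Even CF.LX
open scoped commutatorElement

variable {G : Type*} [Group G] [Finite G]

theorem layer_simple {Q : Subgroup G} {z : G} (h : LQ Q z) (hO : pPrimeCore 2 G = ⊥) (h2 : pCore 2 G = ⊥)
    (e : Q = 𝐎[2](𝐂₁(z))) : ncl (zpowers z) ⊤ = layer G ∧ generalizedFittingSubgroup G = layer G ∧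
      IsSimpleGroup (layer G) ∧ ¬ IsMulCommutative (layer G) := by
  have hF : generalizedFittingSubgroup G = layer G := by
    rw [CF.Sig.fstar_eq_layer_sup_pCore hO, h2, sup_bot_eq]
  have hZ : ∀ K : Subgroup G, IsComponent K → K ⊓ 𝐂(K) = ⊥ := fun K hK => eq_bot_iff.2
    ((CF.Sig.center_comp_le_fitting hK).trans ((CF.Solv.fitting_le_pCore_sup_pPrimeCore 2).trans
      (by rw [h2, hO, sup_bot_eq])))
  have zin : ∀ K L : Subgroup G, IsComponent L → L ≤ K → Q ≤ 𝐍(K) → z ∈ K := fun K L hL l hn =>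
    h.mem_of_even (even_iff_two_dvd.1 (Nat.not_odd_iff_even.1 fun o => CF.Sig.qs_not_isMulCommutative hL.2
      ⟨⟨fun x y => Subtype.ext (by
        have i := fun x hx => inverts_of_fpf h.zz (hn h.mem) (fun x hx c => mem_bot.1 ((h.odd_eq_bot
          (K := K ⊓ 𝐂₁(z)) (o.of_dvd_nat (card_dvd_of_le inf_le_left)) (le_normalizer_inf hn
            (h.le_c1.trans le_normalizer)) inf_le_right).le ⟨hx, mem_c1.2 c⟩)) (x := x) hx
        have := i _ (mul_mem (l x.2) (l y.2))
        rw [conj_mul_conj, i _ (l x.2), i _ (l y.2), ← mul_inv_rev, inv_inj] at this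
        exact this.symm)⟩⟩)) hn
  have cc : ∀ K L : Subgroup G, IsComponent K → IsComponent L → K ≠ L → K ≤ 𝐂(L) :=
    fun K L a b c => commutator_eq_bot_iff_le_centralizer'.1
      (CF.Sig.comp_commutator_eq_bot_of_ne b a c.symm)
  have tr : ∀ K L : Subgroup G, IsComponent K → IsComponent L → ∃ q ∈ Q, cj[q] K = L :=
    fun K L a b => by
    by_contra hn
    push Not at hn
    refine h.not_comp_le b (le_centralizer_singleton_iff.2 (?_ : z ∈ 𝐂(L)))
    exact ncl_le_iff.2 (fun q hq => cc _ _ (CF.Sig.comp_map_conj a q) b (hn q hq))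
      (zin _ _ a (le_ncl _ _) (le_normalizer_ncl K Q))
  have E1 : layer G ≠ ⊥ := fun e => by
    have := CF.Sig.centralizer_fstar_le (G := G)
    rw [hF, e, centralizer_bot] at this
    exact h.z_ne (mem_bot.1 (this (mem_top z)))
  obtain ⟨L, hL⟩ : ∃ L : Subgroup G, IsComponent L := by
    by_contra hn; push Not at hn; exact E1 (CF.Sig.layer_eq_bot_iff.2 hn)
  have zE : z ∈ layer G := zin _ _ hL (CF.Sig.comp_le_layer hL) (le_normalizer_of_normal' _ _)
  refine ⟨le_antisymm (ncl_le (zpowers_le.2 zE) (le_normalizer_of_normal' _ _))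
    (CF.Sig.layer_le fun K hK => (CF.Sig.comp_le_or_commutator_eq_bot_of_le_normalizer hK
      (le_normalizer_of_normal' _ _)).resolve_right fun e => h.not_comp_le hK ?_), hF, ?_⟩
  · rw [commutator_comm, commutator_eq_bot_iff_le_centralizer'] at e
    exact centralizer_zpowers z ▸ e.trans (centralizer_anti (le_ncl _ _))
  have simp : IsSimpleGroup L ∧ ¬ IsMulCommutative L :=
    ⟨isSimpleGroup_of_qs hL.2 (hZ L hL), CF.Sig.qs_not_isMulCommutative hL.2⟩
  by_cases h1 : ∀ q ∈ Q, cj[q] L = L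
  · have : layer G = L := le_antisymm (CF.Sig.layer_le fun K hK => by
      obtain ⟨q, hq, e⟩ := tr L K hL hK
      rw [← e, h1 q hq]) (CF.Sig.comp_le_layer hL)
    exact this ▸ simp
  exfalso
  push Not at h1
  obtain ⟨u, hu, hne⟩ := h1
  have cL : ∀ g, IsComponent (cj[g] L) := CF.Sig.comp_map_conj hL
  obtain ⟨z₁, pz⟩ : ∃ a, Pr L a z := exists_pr (CF.Sig.layer_le (fun K hK => by
    by_cases e : K = L
    · exact e.le.trans le_sup_left
    · exact (cc K L hK hL e).trans le_sup_right) zE)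
  have U := fun {a b x} => Pr.unique (a := a) (b := b) (x := x) (hZ L hL)
  have U' := fun g {a b x} => Pr.unique (a := a) (b := b) (x := x) (hZ _ (cL g))
  have z2 : orderOf z₁ = 2 := orderOf_eq_two' (U (pz.mul pz) (by rw [h.zz]; exact pr_one (one_mem _)))
    fun e => h.not_comp_le hL (le_centralizer_singleton_iff.2 (by simpa [e] using pz.2))
  have pz' : ∀ q ∈ Q, Pr (cj[q] L) (q * z₁ * q⁻¹) z := fun q hq => by
    simpa only [h.conj_mem hq (mem_zpowers z)] using pz.cj q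
  have cz : ∀ x ∈ L ⊓ 𝐂₁(z₁), x * z = z * x := fun x hx => by
    calc x * z = x * z₁ * (z₁⁻¹ * z) := by group
      _ = z₁ * (x * (z₁⁻¹ * z)) := by rw [mem_c1.1 hx.2, mul_assoc]
      _ = z * x := by rw [pz.2 x hx.1]; group
  have big := not_cent_le_zpowers (CF.Sig.comp_perfect hL) pz.1 z2
  have wQ : ∀ x ∈ L ⊓ 𝐂₁(z₁), x * (u * x⁻¹ * u⁻¹) ∈ Q := fun x hx => by
    simpa [mul_assoc] using
      Q.mul_mem (conj_mem_of_mem_normalizer (h.nor' (cz x hx)) hu) (Q.inv_mem hu)
  have c12 := cc _ _ (cL u) hL hne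
  have c21 := le_centralizer_comm.1 c12
  have pw : ∀ x ∈ L, Pr L x (x * (u * x⁻¹ * u⁻¹)) := fun x hx =>
    ⟨hx, by simpa using c12 (conj_mem_cj u (L.inv_mem hx))⟩
  have pw' : ∀ x ∈ L, Pr (cj[u] L) (u * x⁻¹ * u⁻¹) (x * (u * x⁻¹ * u⁻¹)) := fun x hx => by
    simpa using (pr_one (c21 hx)).mul (pr_self (conj_mem_cj u (L.inv_mem hx)))
  have two : ∀ v ∈ Q, cj[v] L = L ∨ cj[v] L = cj[u] L := fun v hv => by
    by_contra hn
    push Not at hn
    refine big fun x hx => (mem_zpowers_invol z2).2 (or_iff_not_imp_left.2 fun x1 => ?_)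
    have e := (h.conj_cases hv (wQ x hx)).resolve_left fun e => x1 (by
      have a := (pw x hx.1).cj v
      rw [e] at a
      simpa using U' v a (pr_one (mul_mem (cc _ _ hL (cL v) hn.1.symm hx.1)
        (cc _ _ (cL u) (cL v) hn.2.symm (conj_mem_cj u (L.inv_mem hx.1))))))
    have m1 : v * x * v⁻¹ ∈ cj[v] L := conj_mem_cj v hx.1
    have m2 : v * (u * x⁻¹ * u⁻¹) * v⁻¹ ∈ cj[v * u] L := by
      rw [cj_mul]; exact conj_mem_cj v (conj_mem_cj u (L.inv_mem hx.1))
    rw [conj_mul_conj] at e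
    by_cases k : cj[v * u] L = L
    · have a := pr_one (mul_mem (cc _ _ (cL v) (cL u) hn.2 m1)
        (cc _ _ (cL _) (cL u) (by rw [k]; exact hne.symm) m2))
      rw [e] at a
      have := U' u a ((pz' u hu).mul (pw' x hx.1))
      rw [← conj_mul_conj, eq_comm, conj_eq_one_iff, mul_inv_eq_one] at this
      exact this.symm
    · have a := pr_one (mul_mem (cc _ _ (cL v) hL hn.1 m1) (cc _ _ (cL _) hL k m2))
      rw [e] at a
      exact (eq_inv_of_mul_eq_one_right (U a (pz.mul (pw x hx.1))).symm).trans (inv_of_invol z2)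
  have comps : ∀ K, IsComponent K → K = L ∨ K = cj[u] L := fun K hK => by
    obtain ⟨q, hq, rfl⟩ := tr L K hL hK
    exact two q hq
  have sq : ∀ x ∈ L ⊓ 𝐂₁(z₁), x * x ∈ zpowers z₁ := fun x hx => by
    have a := (pw x hx.1).mul (pw x hx.1)
    rcases h.sq _ (wQ x hx) with e | e <;> rw [e] at a
    · rw [U a (pr_one (one_mem _))]; exact one_mem _
    · rw [U a pz]; exact mem_zpowers _
  have p2 : IsPGroup 2 ↥(L ⊓ 𝐂₁(z₁)) := isPGroup_iff_forall.2 fun x hx => ⟨2, by
    have : x ^ 2 ^ 2 = x * x * (x * x) := by norm_num [pow_succ, mul_assoc]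
    rcases (mem_zpowers_invol z2).1 (sq x hx) with e | e <;> rw [this, e] <;>
      simp [mul_self_of_invol z2]⟩
  have cz' : L ⊓ 𝐂₁(z) = L ⊓ 𝐂₁(z₁) := le_antisymm (fun x hx => ⟨hx.1, by
    have a := ((pr_self hx.1).mul pz).mul (pr_self (L.inv_mem hx.1))
    rw [conj_eq_of_mem_centralizer_singleton hx.2] at a
    exact mem_centralizer_singleton_of_conj (U a pz)⟩) fun x hx => ⟨hx.1, mem_c1.2 (cz x hx)⟩
  refine big fun x hx => ?_
  have : L ⊓ 𝐂₁(z) ⊔ cj[u] L ⊓ 𝐂₁(z) ≤ Q := by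
    have e2 : cj[u] L ⊓ 𝐂₁(z) = cj[u] (L ⊓ 𝐂₁(z)) := by
      rw [cj_inf, cj_eq_self_of_mem (h.le_c1 hu)]
    refine le_trans (le_pCoreOf (isPGroup_sup (cz' ▸ p2) (e2 ▸ isPGroup_cj u (cz' ▸ p2))
      (inf_le_left.trans (c12.trans (centralizer_le_normalizer_of_le inf_le_left))))
      (sup_le inf_le_right inf_le_right) (le_normalizer_iff_cj.2 fun g hg => ?_)) e.ge
    rw [cj_sup, cj_inf, cj_inf, cj_eq_self_of_mem hg, ← cj_mul]
    refine sup_le ?_ ?_
    · rcases comps _ (cL g) with k | k <;> rw [k]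
      exacts [le_sup_left, le_sup_right]
    · rcases comps _ (cL (g * u)) with k | k <;> rw [k]
      exacts [le_sup_left, le_sup_right]
  have xQ := this (mem_sup_left (cz'.ge hx))
  have a := pr_one (c12 (conj_mem_cj u hx.1))
  rcases h.conj_cases hu xQ with k | k <;> rw [k] at a
  · rw [U (pr_self hx.1) a]; exact one_mem _
  · rw [eq_inv_of_mul_eq_one_right (U (pz.mul (pr_self hx.1)) a)]
    exact inv_mem (mem_zpowers _)

end CF.WX
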