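import Cfsg.Agent.WX.Top

/-! A frame for two meeting lines. -/

set_option autoImplicit false
set_option linter.unusedSectionVars false

namespace CF.WX

open Cfsg Subgroup CF.Loc CF.Even CF.LX Module

variable {G : Type*} [Group G] [Finite G] {V : Type} [AddCommGroup V] [Module (ZMod 2) V] [Finite V]
variable {D : Set G} {Q : G → Subgroup G} {n : ℕ} {z t s r a b c d e f g p : G} {u v w x y : V}

/-- the Siegel map of two vectors -/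
def Md.S {P : Subgroup G} (M : Md P z V) (x y v : V) : V := M.b x v • y + M.b y v • x

namespace TI

variable (h : TI D Q n z t) (M : Md (Q z) z V)
include h

theorem nilp (k : TI D Q n z r) (v0 : M.T r v ≠ 0) (o : M.T t (M.T r v) = 0) :
    (∀ x, M.T t (M.T r (M.T t x)) = 0) ∧ ∀ x, M.T r (M.T t (M.T r x)) = 0 := by
  obtain ⟨w, w0, vw⟩ := k.L2 M v0
  have a : ∀ x, M.T r (M.T t x) = M.b (M.T r w) (M.T t x) • M.T r v := fun x => by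
    rw [k.form M v0 w0 vw, ← h.sadj, o]; simp
  refine ⟨fun x => by rw [a, map_smul, o, smul_zero], fun x => ?_⟩
  obtain ⟨α, β, e⟩ := k.L4 M v0 w0 vw x
  rw [a, e, map_add, map_smul, map_smul, o, map_add, map_smul, map_smul, map_zero, M.sy, h.bT0 M h.hl.1]
  simp

theorem opp (O2 : 𝐎[2](𝐂₁(z)) ≤ Q z) : ∃ r, TI D Q n z r ∧ (∀ v, M.T t (M.T r v) = 0 → M.T r v = 0) ∧
    ∀ v, M.T r (M.T t v) = 0 → M.T t v = 0 := by
  obtain ⟨g, g1, o⟩ := bs (h.sq h.ht) (mem_c1.2 h.tz) (mt (O2 ·) h.tQ)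
  have l := h.conjl (mem_c1.1 g1)
  generalize g * t * g⁻¹ = r at l o
  have key : (∀ x, M.T t (M.T r (M.T t x)) = 0) → (∀ x, M.T r (M.T t (M.T r x)) = 0) → False := fun a b => by
    have c : t * r * z = z * (t * r) := Commute.mul_left h.tz l.tz
    have c2 : t * r * (t * r) * z = z * (t * r * (t * r)) := Commute.mul_left c c
    refine o _ (pow_Q h.l 2 ?_)
    rw [show (t * r) ^ 2 ^ 2 = t * r * (t * r) * (t * r * (t * r)) by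
      rw [show 2 ^ 2 = 2 * 2 from rfl, pow_mul, pow_two, pow_two]]
    refine M.memQ (Commute.mul_left c2 c2) fun v => ?_
    simp only [M.Tsq c2, M.Tsq c, M.Tmul h.tz l.tz, map_add, h.TT, l.TT, a, b, map_zero, add_zero, zero_add]
  refine ⟨r, l, fun v e => not_not.1 fun m => ?_, fun v e => not_not.1 fun m => ?_⟩
  · exact key (h.nilp M l m e).1 (h.nilp M l m e).2
  · exact key (l.nilp M h m e).2 (l.nilp M h m e).1

theorem beta (hb : b ∈ Q t) (b1 : b * z = z * b) (bb : b * b = 1) (hc : c ∈ Q t) (c1 : c * z = z * c) (cc : c * c = 1)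
    (v0 : M.T t v ≠ 0) (w0 : M.T t w ≠ 0) : M.b (M.T b v) (M.T c v) = M.b (M.T b w) (M.T c w) := by
  have c2 : b * c * z = z * (b * c) := Commute.mul_left b1 c1
  have a : ∀ v, M.q (M.T (b * c) v) = M.b (M.T b v) (M.T c v) := fun v => by
    obtain ⟨u, e⟩ := h.TbA M hb b1 (h.TbV M hc c1 v)
    rw [M.Tmul b1 c1, ← e, M.add, M.add, h.iso1 M hb b1 bb, h.iso1 M hc c1 cc, h.qL, ← h.sadj, map_add,
      h.TbV M hb b1, h.TbV M hc c1]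
    simp
  have i : ∀ {v w}, M.T t v ≠ 0 → M.b (M.T b v) (M.T c v) = 0 → M.b (M.T b w) (M.T c w) = 0 := fun v0 e =>
    a _ ▸ h.iso1 M (mul_mem hb hc) c2 (h.iso2 M (mul_mem hb hc) c2 v0 (a _ ▸ e)) _
  exact (by decide : ∀ x y : ZMod 2, (x = 0 → y = 0) → (y = 0 → x = 0) → x = y) _ _ (i v0) (i w0)

end TI

/-- two opposite lines with dual bases -/
structure Op {P : Subgroup G} (M : Md P z V) (t : G) (l₁ l₂ m₁ m₂ : V) : Prop where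
  f : ∀ v, M.T t v = M.S l₁ l₂ v
  t1 : M.T t m₁ = l₁
  t2 : M.T t m₂ = l₂
  b11 : M.b l₁ m₁ = 0
  b12 : M.b l₁ m₂ = 1
  b21 : M.b l₂ m₁ = 1
  b22 : M.b l₂ m₂ = 0
  bl : M.b l₁ l₂ = 0
  bm : M.b m₁ m₂ = 0

/-- perpendicular to both lines -/
structure Pp {P : Subgroup G} (M : Md P z V) (l₁ l₂ m₁ m₂ x : V) : Prop where
  l1 : M.b l₁ x = 0
  l2 : M.b l₂ x = 0
  m1 : M.b m₁ x = 0
  m2 : M.b m₂ x = 0

namespace TI

variable (h : TI D Q n z t) (M : Md (Q z) z V) {l₁ l₂ m₁ m₂ : V}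
include h

theorem exists_op (k : TI D Q n z r) (c : ∀ v, M.T t (M.T r v) = 0 → M.T r v = 0)
    (c' : ∀ v, M.T r (M.T t v) = 0 → M.T t v = 0) (u0 : M.T t u ≠ 0) :
    ∃ l₂ m₁ m₂, Op M t (M.T t u) l₂ m₁ m₂ ∧ M.q m₁ = 0 ∧ M.q m₂ = 0 ∧ ∀ v, M.T r v = M.S m₁ m₂ v := by
  obtain ⟨w, w0, uw⟩ := h.L2 M u0
  have f := h.form M u0 w0 uw
  have t1 := UN.TST h k M c c' u
  have t2 := UN.TST h k M c c' w
  have b11 : M.b (M.T t u) (M.T r (M.T t u)) = 0 := (M.sy _ _).trans (k.bT0 M k.hl.1 _)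
  have b22 : M.b (M.T t w) (M.T r (M.T t w)) = 0 := (M.sy _ _).trans (k.bT0 M k.hl.1 _)
  refine ⟨_, _, _, ⟨f, t1, t2, b11, ne_zero'.1 fun e => w0 ?_, ne_zero'.1 fun e => u0 ?_, b22, h.bL M _ _, k.bL M _ _⟩,
    k.qL M _, k.qL M _, k.form M (mt (c' u) u0) (mt (c' w) w0) fun e => uw (by rw [← t1, e, t2])⟩
  · rw [← t2, f, e, b22]; simp
  · rw [← t1, f, e, b11]; simp

variable (o : Op M t l₁ l₂ m₁ m₂)
include o

theorem ker_iff : M.T t x = 0 ↔ M.b l₁ x = 0 ∧ M.b l₂ x = 0 :=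
  ⟨fun e => ⟨by rw [← o.t1, h.sadj, e, map_zero], by rw [← o.t2, h.sadj, e, map_zero]⟩,
    fun e => by simp [o.f, Md.S, e.1, e.2]⟩

theorem rngL (v : V) : M.T t v = M.b (M.T t v) m₂ • l₁ + M.b (M.T t v) m₁ • l₂ := by
  simp [o.f, Md.S, o.b11, o.b12, o.b21, o.b22, add_comm]

theorem m0 : M.T t m₁ ≠ 0 ∧ M.T t m₂ ≠ 0 ∧ M.T t (m₁ + m₂) ≠ 0 := by
  refine ⟨fun e => ?_, fun e => ?_, fun e => ?_⟩ <;> have := (h.ker_iff M o).1 e <;>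
    simp [o.b11, o.b12, o.b21, o.b22] at this

theorem gen_b (p : Pp M l₁ l₂ m₁ m₂ x) (q0 : M.q x = 0) : ∃ b ∈ Q t, b * z = z * b ∧ b * b = 1 ∧ M.T b m₁ = x ∧
    Pp M l₁ l₂ m₁ m₂ (M.T b m₂) ∧ ∀ v, M.T b v = M.S l₂ x v + M.S l₁ (M.T b m₂) v := by
  have x0 := (h.ker_iff M o).2 ⟨p.l1, p.l2⟩
  obtain ⟨b, hb, b1, bb, e⟩ : ∃ b ∈ Q t, b * z = z * b ∧ b * b = 1 ∧ M.T b m₁ = x := by
    obtain ⟨b, hb, b1, u, e⟩ := h.surj M (h.m0 M o).1 x0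
    have q1 : M.q (M.T b m₁) = 0 := by rw [e, M.add, q0, h.qL, ← h.sadj, x0]; simp
    have bb := h.iso2 M hb b1 (h.m0 M o).1 q1
    rw [M.qT b1, e, map_add, LinearMap.add_apply, M.sy, p.m1, zero_add] at q1
    rw [h.rngL M o, q1, zero_smul, add_zero] at e
    rcases zmod_two_cases (M.b (M.T t u) m₂) with m | m <;> rw [m] at e
    · exact ⟨b, hb, b1, bb, by simpa using e⟩
    · refine ⟨b * t, mul_mem hb h.r.mem, Commute.mul_left b1 h.tz, ?_, ?_⟩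
      · rw [Commute.mul_mul_mul_comm (h.r.zc hb).symm, bb, h.r.zz, mul_one]
      · rw [M.Tmul b1 h.tz, h.TbL M hb b1, e, o.t1, one_smul, add_zero, add_assoc, two, add_zero]
  have k := (h.ker_iff M o).1 (h.TbV M hb b1 m₂)
  have p' : Pp M l₁ l₂ m₁ m₂ (M.T b m₂) := ⟨k.1, k.2, by rw [← M.sadj b1 bb, e, M.sy, p.m2],
    by rw [M.sy, ← M.qT b1, h.iso1 M hb b1 bb]⟩
  refine ⟨b, hb, b1, bb, e, p', fun v => ?_⟩
  obtain ⟨u, e'⟩ := h.TbA M hb b1 (w := v + M.b l₂ v • m₁ + M.b l₁ v • m₂) ((h.ker_iff M o).2 (by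
    simp [o.b11, o.b12, o.b21, o.b22, CharTwo.add_self_eq_zero]))
  have e2 := h.rngL M o u
  rw [e', M.sadj b1 bb, M.sadj b1 bb, e] at e2
  simp only [map_add, map_smul, LinearMap.add_apply, LinearMap.smul_apply, e, p.m1, p.m2, p'.m1, p'.m2, smul_zero,
    add_zero, M.sy v] at e2
  unfold Md.S
  linear_combination (norm := (match_scalars <;> grind)) e2

theorem ne_of (hb : b ∈ Q t) (b1 : b * z = z * b) (x0 : M.T b m₁ ≠ 0) (p : Pp M l₁ l₂ m₁ m₂ (M.T b m₁))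
    (v0 : M.T t v ≠ 0) : M.T b v ≠ 0 := fun e => by
  obtain ⟨u, e'⟩ := h.U_rng M (h.inj M hb b1 v0 (u := 0) ((map_zero _).trans e.symm)) m₁
  have := h.rngL M o u
  rw [e', M.sy, p.m2, M.sy, p.m1] at this
  exact x0 (by simpa using this)

end TI

/-- the Gram matrix -/
def gm (i j : Fin 8) : ZMod 2 :=
  if (i, j) ∈ [(0, 7), (7, 0), (1, 6), (6, 1), (2, 4), (4, 2), (2, 5), (5, 2), (3, 5), (5, 3)] then 1 else 0

/-- the frame -/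
structure Fm {P : Subgroup G} (M : Md P z V) (t : G) (e : Fin 8 → V) : Prop where
  b : ∀ i j, M.b (e i) (e j) = gm i j
  q : ∀ i, M.q (e i) = 0
  l1 : ∃ u, M.T t u = e 0
  l2 : ∃ u, M.T t u = e 1
  ft : ∀ v, M.T t v = M.S (e 0) (e 1) v
  fr : ∃ r, r * z = z * r ∧ ∀ v, M.T r v = M.S (e 6) (e 7) v
  fs : ∃ s, s * z = z * s ∧ ∃ β : ZMod 2, ∀ v, M.T s v = M.S (e 0) (e 2 + β • e 1) v
  fb : ∃ b, b * z = z * b ∧ ∀ v, M.T b v = M.S (e 1) (e 2) v + M.S (e 0) (e 3) v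
  fc : ∃ c, c * z = z * c ∧ ∀ v, M.T c v = M.S (e 1) (e 4) v + M.S (e 0) (e 5) v

theorem TI.frame (h : TI D Q n z t) (M : Md (Q z) z V) (O2 : 𝐎[2](𝐂₁(z)) ≤ Q z) (k : TI D Q n z s) {u' : V}
    (u0 : M.T t u ≠ 0) (uu : M.T s u' = M.T t u) (ne : s * t ∉ Q z) : ∃ e, Fm M t e := by
  obtain ⟨r, hr, c, c'⟩ := h.opp M O2
  obtain ⟨l₂, m₁, m₂, o, q1, q2, fr⟩ := h.exists_op M hr c c' u0
  obtain ⟨w, w0, uw⟩ := k.L2 M (uu ▸ u0 : M.T s u' ≠ 0)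
  have fs := k.form M (uu ▸ u0 : M.T s u' ≠ 0) w0 uw
  have y1 := h.meet_y M k u0 uu ne w0 uw
  have y2 := h.meet_perp M k u0 uu ne u w
  have y3 := o.t2 ▸ h.meet_perp M k u0 uu ne m₂ w
  have y4 := k.qL M w
  have ql1 := h.qL M u
  have ql2 := o.t2 ▸ h.qL M m₂
  rw [uu] at fs
  generalize M.T s w = y at *
  generalize M.T t u = l₁ at *
  have sy := M.sy
  have bs := M.bs
  obtain ⟨x₁, e1⟩ : ∃ x, x = y + M.b y m₂ • l₁ + M.b y m₁ • l₂ := ⟨_, rfl⟩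
  have p1 : Pp M l₁ l₂ m₁ m₂ x₁ := by
    constructor <;> simp [e1, y2, y3, o.bl, bs, sy l₂ l₁, sy m₁, sy m₂, o.b11, o.b12, o.b21, o.b22, CharTwo.add_self_eq_zero]
  have qs : ∀ (a : ZMod 2) v, M.q v = 0 → M.q (a • v) = 0 := fun a v e => by
    rcases zmod_two_cases a with rfl | rfl <;> simp [M.q0, e]
  have qx1 : M.q x₁ = 0 := by simp [e1, M.add, y4, qs, ql1, ql2, sy y, y2, y3, o.bl]
  have x0 : x₁ ≠ 0 := fun e => y1 (M.b y m₂ • m₁ + M.b y m₁ • m₂) (by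
    rw [map_add, map_smul, map_smul, o.t1, o.t2, eq_comm, ← add_eq_zero', ← add_assoc, ← e1, e])
  obtain ⟨b, hb, b1, bb, eb, p2, fb⟩ := h.gen_b M o p1 qx1
  have m0 := h.m0 M o
  have n2 := h.ne_of M o hb b1 (eb ▸ x0) (eb ▸ p1) m0.2.2
  have n1 := h.ne_of M o hb b1 (eb ▸ x0) (eb ▸ p1) m0.2.1
  rw [map_add, eb, Ne, add_eq_zero'] at n2
  obtain ⟨x₃, p3, qx3, d1, d2⟩ : ∃ x, Pp M l₁ l₂ m₁ m₂ x ∧ M.q x = 0 ∧ M.b x₁ x = 1 ∧ M.b (M.T b m₂) x = 0 := by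
    obtain ⟨x, d1, d2⟩ := M.dual x0 n2
    obtain ⟨x', e⟩ : ∃ x', x' = x + M.b x m₂ • l₁ + M.b x m₁ • l₂ + M.b x l₂ • m₁ + M.b x l₁ • m₂ := ⟨_, rfl⟩
    have p : Pp M l₁ l₂ m₁ m₂ x' := by
      constructor <;> simp [e, o.bl, o.bm, bs, sy l₂ l₁, sy m₂ m₁, sy m₁ l₁, sy m₁ l₂, sy m₂ l₁, sy m₂ l₂, sy _ x, o.b11, o.b12,
        o.b21, o.b22, CharTwo.add_self_eq_zero]
    have d3 : M.b x₁ x' = 1 := by simp [e, d1, sy x₁ l₁, sy x₁ l₂, sy x₁ m₁, sy x₁ m₂, p1.l1, p1.l2, p1.m1, p1.m2]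
    have d4 : M.b (M.T b m₂) x' = 0 := by
      simp [e, d2, sy _ l₁, sy _ l₂, sy _ m₁, sy (M.T b m₂) m₂, p2.l1, p2.l2, p2.m1, p2.m2]
    have d5 : M.b (M.T b m₂) x₁ = 0 := by
      have := h.iso1 M hb b1 bb (m₂ + m₁)
      rwa [map_add, M.add, h.iso1 M hb b1 bb, h.iso1 M hb b1 bb, zero_add, zero_add, eb] at this
    refine ⟨x' + M.q x' • x₁, ?_, ?_, by simp [d3, bs], by simp [d4, d5]⟩
    · constructor <;> simp [p.l1, p.l2, p.m1, p.m2, p1.l1, p1.l2, p1.m1, p1.m2]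
    · simp [M.add, qs _ _ qx1, sy x', d3, CharTwo.add_self_eq_zero]
  obtain ⟨c, hc, c1, cc, ec, p4, fc⟩ := h.gen_b M o p3 qx3
  have i : ∀ {b}, b ∈ Q t → b * z = z * b → b * b = 1 → M.b (M.T b m₁) (M.T b m₂) = 0 := fun hb b1 bb => by
    have := h.iso1 M hb b1 bb (m₁ + m₂)
    rwa [map_add, M.add, h.iso1 M hb b1 bb, h.iso1 M hb b1 bb, zero_add, zero_add] at this
  have g12 := eb ▸ i hb b1 bb
  have g34 := ec ▸ i hc c1 cc
  have g24 := h.beta M hb b1 bb hc c1 cc m0.2.1 m0.1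
  have g14 := h.beta M hb b1 bb hc c1 cc m0.2.2 m0.1
  rw [eb, ec, d1] at g24
  simp only [map_add, LinearMap.add_apply, eb, ec, d1, d2, g24] at g14
  replace g14 : M.b x₁ (M.T c m₂) = 1 := by grind
  have qx2 := h.iso1 M hb b1 bb m₂
  have qx4 := h.iso1 M hc c1 cc m₂
  generalize M.T b m₂ = x₂ at *
  generalize M.T c m₂ = x₄ at *
  refine ⟨![l₁, l₂, x₁, x₂, x₃, x₄, m₁, m₂], fun i j => ?_, fun i => ?_, ⟨_, o.t1⟩, ⟨_, o.t2⟩, o.f, ⟨r, hr.tz, fr⟩,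
    ⟨s, k.tz, M.b y m₁, fun v => ?_⟩, ⟨b, b1, fb⟩, ⟨c, c1, fc⟩⟩
  · obtain ⟨-, -, -, _, _, _, _, _, _⟩ := o
    obtain ⟨_, _, _, _⟩ := p1
    obtain ⟨_, _, _, _⟩ := p2
    obtain ⟨_, _, _, _⟩ := p3
    obtain ⟨_, _, _, _⟩ := p4
    fin_cases i <;> fin_cases j <;> first | exact bs _ | assumption | (refine (sy _ _).trans ?_; assumption)
  · fin_cases i <;> assumption
  · simp only [fs, e1, Md.S, Matrix.cons_val, map_add, map_smul, LinearMap.add_apply, LinearMap.smul_apply, smul_eq_mul]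
    apply v2; match_scalars <;> grind

end CF.WX
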