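import Cfsg.Agent.Recog.X8.Inp

/-! A matrix group preserving a system of lines is the spin group. -/

set_option autoImplicit false
set_option maxRecDepth 100000

namespace CF.WX

open Cfsg Subgroup CF.X8 CF.J4 CF.Comp CF.Schur.Pc MulAction Matrix

/-- the coordinate space -/
abbrev V8 : Type := Fin 8 → ZMod 2

/-- the vector with a given code -/
def vc (c : ℕ) : V8 := fun i => b2z (c.testBit i)

/-- the quadratic form -/
def qq (v : V8) : ZMod 2 := v 0 * v 7 + v 1 * v 6 + v 2 * v 4 + v 2 * v 5 + v 3 * v 5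

/-- the bilinear form -/
def bb (u v : V8) : ZMod 2 := u 0 * v 7 + u 7 * v 0 + u 1 * v 6 + u 6 * v 1 + u 2 * v 4 + u 4 * v 2 + u 2 * v 5 +
  u 5 * v 2 + u 3 * v 5 + u 5 * v 3

/-- the generators -/
noncomputable def GS : List ℕ := [0x8040201008048241, 0x8241201008040201, 0x8040201008840231, 0x8040201088443221,
  0x8040a0500804060d]

/-- words for the standard generators -/
def GW6 : List (List ℕ) := [[0, 1, 4, 1, 3, 4, 1, 3, 4, 1, 0, 3, 1, 4, 3, 1, 3], [1, 0, 3, 1, 4, 3, 1, 0, 4, 1, 3, 4, 1, 3],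
  [3, 1, 3, 4, 1, 0, 3, 1, 0, 4, 1, 0, 3, 1, 4, 1], [0, 1, 4, 1, 3, 1, 4, 3, 1, 3, 4, 1, 3, 1, 4, 1],
  [2, 4, 1, 0, 4, 1, 2, 3, 1, 0, 4, 1, 4, 2], [0, 3, 1, 4, 1, 2, 3, 1, 4, 1, 0, 3]]

/-- flags -/
def FL : List (ℕ × ℕ × List ℕ) := [(1, 6, [1, 2, 1]), (1, 53, [1, 4, 0, 1, 2, 4, 1]), (2, 15, [1, 2, 1, 4, 1, 3, 1]),
  (2, 12, [1, 2, 1, 4, 1, 3, 2, 1]), (2, 33, [1, 2, 4, 1, 4, 2, 1, 3, 1, 4, 1]), (64, 128, [0, 1]), (64, 132, [2, 0, 1]),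
  (64, 116, [4, 1, 2, 4, 1])]

theorem k1 : mm 8 0xae593c28f4ac2e19 0x8241fba6eb96844c = mo 8 ∧ ∀ i < 6, (∀ j ∈ GW6.getD i [], j < 5) ∧
    mm 8 0xae593c28f4ac2e19 (mm 8 (pe GS (GW6.getD i [])) 0x8241fba6eb96844c) = nth (mo 8) SP i := by decide +kernel

theorem k2 : ∀ e ∈ FL, (∀ j ∈ e.2.2, j < 5) ∧ bm 8 (pe GS e.2.2) *ᵥ vc 1 = vc e.1 ∧
    bm 8 (pe GS e.2.2) *ᵥ vc 2 = vc e.2.1 := by decide +kernel

theorem vc_surj (v : V8) : ∃ c < 256, vc c = v := by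
  obtain ⟨x, h1, h2⟩ := exists_mask 8 fun t => ∃ i : Fin 8, t = i ∧ v i = 1
  refine ⟨x, h1, funext fun i => ?_⟩
  have := h2 i i.2
  rcases CF.LX.zmod_two_cases (v i) with e | e
  · rw [vc, e, (Bool.eq_false_iff (b := x.testBit i)).2 fun k => ?_]; rfl
    obtain ⟨a, k1, k2⟩ := this.1 k
    obtain rfl : a = i := Fin.ext k1.symm
    exact absurd (e.symm.trans k2) (by decide)
  · rw [vc, this.2 ⟨i, rfl, e⟩, e]; rfl

theorem step {K : Subgroup L8} (v : V8) (P : V8 → Prop) [DecidablePred P] {m : ℕ}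
    (c : ((List.range 256).filter fun x => P (vc x)).length = m) (h : ∀ g ∈ K, P (g • v)) :
    Nat.card K ≤ m * Nat.card ↥(K ⊓ stabilizer L8 v) := by
  classical
  have a : (stabilizer L8 v).relIndex K ≤ m := by
    rw [relIndex, show (stabilizer L8 v).subgroupOf K = stabilizer K v from rfl, index_stabilizer, ← c,
      ← List.length_map vc]
    refine le_trans (Set.ncard_le_ncard (t := (List.toFinset _ : Finset V8)) ?_) ((Set.ncard_coe_finset _).le.trans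
      (List.toFinset_card_le _))
    rintro _ ⟨g, rfl⟩
    obtain ⟨x, x1, x2⟩ := vc_surj (g • v)
    exact List.mem_toFinset.2 (List.mem_map.2 ⟨x, List.mem_filter.2 ⟨List.mem_range.2 x1, decide_eq_true
      (x2 ▸ h g g.2)⟩, x2⟩)
  rw [← ((stabilizer L8 v).subgroupOf K).index_mul_card, inf_comm, ← Nat.card_congr (subgroupOfEquivOfLe
    (inf_le_right (a := stabilizer L8 v))).toEquiv, inf_subgroupOf_right]
  exact Nat.mul_le_mul_right _ a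

theorem bb_eq (u v : V8) : bb u v = qq (u + v) + qq u + qq v := by
  simp only [bb, qq, Pi.add_apply]; grind

/-- a group of isometries with an invariant system of lines -/
structure LS (K : Subgroup L8) (Ln : V8 → V8 → Prop) : Prop where
  q : ∀ g ∈ K, ∀ v, qq (g • v) = qq v
  cj : ∀ g ∈ K, ∀ l y, Ln l y → Ln (g • l) (g • y)
  pp : ∀ l y y', Ln l y → Ln l y' → l ≠ 0 → bb y l = 0 ∧ bb y y' = 0
  ln : Ln (vc 1) (vc 2)
  gen : ∀ i < 5, ∃ g ∈ K, RG g (nth (mo 8) GS i)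

namespace LS

variable {K : Subgroup L8} {Ln : V8 → V8 → Prop} (h : LS K Ln) {g : L8}
include h

theorem word {w : List ℕ} (l : ∀ j ∈ w, j < 5) : ∃ g ∈ K, RG g (pe GS w) := by
  choose! u u1 u2 using h.gen
  exact ⟨X8.pv u w, X8.pv_mem fun i hi => u1 i (l i hi), cd_pe rg_cd fun i hi => u2 i (l i hi)⟩

theorem fl (e : ℕ × ℕ × List ℕ) (he : e ∈ FL) : Ln (vc e.1) (vc e.2.1) := by
  obtain ⟨a, b, c⟩ := k2 e he
  obtain ⟨g, g1, g2⟩ := h.word a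
  rw [← b, ← c, ← g2]
  exact h.cj g g1 _ _ h.ln

theorem b (hg : g ∈ K) {u : V8} (e : g • u = u) (v : V8) : bb (g • v) u = bb v u := by
  nth_rw 1 [← e]
  rw [bb_eq, bb_eq, ← smul_add, h.q g hg, h.q g hg, h.q g hg]

theorem ne {u v : V8} (e : g • u = u) (o : v ≠ u) : g • v ≠ u := fun k => o (smul_left_cancel g (k.trans e.symm))

theorem m1 (hg : g ∈ K) (e : g • vc 1 = vc 1) {y : V8} (k : Ln (vc 1) y) :
    bb (g • y) (vc 1) = 0 ∧ bb (g • y) (vc 2) = 0 ∧ bb (g • y) (vc 6) = 0 ∧ bb (g • y) (vc 53) = 0 := by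
  have a := e ▸ h.cj g hg _ _ k
  have o : vc 1 ≠ 0 := by decide
  exact ⟨(h.pp _ _ _ a a o).1, (h.pp _ _ _ a h.ln o).2, (h.pp _ _ _ a (h.fl (_, _, _) (.head _)) o).2,
    (h.pp _ _ _ a (h.fl (_, _, _) (.tail _ (.head _))) o).2⟩

theorem m2 (hg : g ∈ K) (e : g • vc 2 = vc 2) {y : V8} (k : Ln (vc 2) y) :
    bb (g • y) (vc 15) = 0 ∧ bb (g • y) (vc 12) = 0 ∧ bb (g • y) (vc 33) = 0 := by
  have a := e ▸ h.cj g hg _ _ k
  have o : vc 2 ≠ 0 := by decide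
  exact ⟨(h.pp _ _ _ a (h.fl (2, 15, _) (by repeat constructor)) o).2,
    (h.pp _ _ _ a (h.fl (2, 12, _) (by repeat constructor)) o).2,
    (h.pp _ _ _ a (h.fl (2, 33, _) (by repeat constructor)) o).2⟩

theorem card_le : Nat.card K ≤ 1451520 := by
  have s1 := step (K := K) (vc 1) (fun v => qq v = 0 ∧ v ≠ 0) (m := 135) (by decide +kernel) fun g hg =>
    ⟨h.q g hg _, h.ne (smul_zero g) (by decide)⟩
  have s2 := step (K := K ⊓ stabilizer L8 (vc 1)) (vc 2) (fun v => (bb v (vc 1) = 0 ∧ bb v (vc 2) = 0 ∧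
    bb v (vc 6) = 0 ∧ bb v (vc 53) = 0) ∧ v ≠ 0 ∧ v ≠ vc 1) (m := 14) (by decide +kernel) fun g hg =>
      ⟨h.m1 hg.1 hg.2 h.ln, h.ne (smul_zero g) (by decide), h.ne hg.2 (by decide)⟩
  have s3 := step (K := K ⊓ stabilizer L8 (vc 1) ⊓ stabilizer L8 (vc 2)) (vc 64) (fun v => qq v = 0 ∧
    bb v (vc 1) = 0 ∧ bb v (vc 2) = 1) (m := 32) (by decide +kernel) fun g hg =>
      ⟨h.q g hg.1.1 _, h.b hg.1.1 hg.1.2 _, h.b hg.1.1 hg.2 _⟩
  have s4 := step (K := K ⊓ stabilizer L8 (vc 1) ⊓ stabilizer L8 (vc 2) ⊓ stabilizer L8 (vc 64)) (vc 128)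
    (fun v => bb v (vc 1) = 1 ∧ bb v (vc 2) = 0 ∧ bb v (vc 64) = 0 ∧ bb v (vc 128) = 0 ∧ bb v (vc 132) = 0 ∧
      bb v (vc 116) = 0) (m := 4) (by decide +kernel) fun g hg => by
        have l := h.fl (64, 128, _) (by repeat constructor)
        have a := h.cj g hg.1.1.1 _ _ l
        rw [show g • vc 64 = vc 64 from hg.2] at a
        have o : vc 64 ≠ 0 := by decide
        exact ⟨h.b hg.1.1.1 hg.1.1.2 _, h.b hg.1.1.1 hg.1.2 _, h.b hg.1.1.1 hg.2 _, (h.pp _ _ _ a l o).2,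
          (h.pp _ _ _ a (h.fl (64, 132, _) (by repeat constructor)) o).2,
          (h.pp _ _ _ a (h.fl (64, 116, _) (by repeat constructor)) o).2⟩
  have s5 := step (K := K ⊓ stabilizer L8 (vc 1) ⊓ stabilizer L8 (vc 2) ⊓ stabilizer L8 (vc 64) ⊓
    stabilizer L8 (vc 128)) (vc 6) (fun v => (bb v (vc 1) = 0 ∧ bb v (vc 2) = 0 ∧ bb v (vc 6) = 0 ∧ bb v (vc 53) = 0) ∧
      bb v (vc 64) = 1 ∧ bb v (vc 128) = 0 ∧ v ≠ vc 2) (m := 3) (by decide +kernel) fun g hg =>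
        ⟨h.m1 hg.1.1.1.1 hg.1.1.1.2 (h.fl (1, 6, _) (by repeat constructor)), h.b hg.1.1.1.1 hg.1.2 _,
          h.b hg.1.1.1.1 hg.2 _, h.ne hg.1.1.2 (by decide)⟩
  have s6 := step (K := K ⊓ stabilizer L8 (vc 1) ⊓ stabilizer L8 (vc 2) ⊓ stabilizer L8 (vc 64) ⊓
    stabilizer L8 (vc 128) ⊓ stabilizer L8 (vc 6)) (vc 53) (fun v => (bb v (vc 1) = 0 ∧ bb v (vc 2) = 0 ∧
      bb v (vc 6) = 0 ∧ bb v (vc 53) = 0) ∧ bb v (vc 64) = 0 ∧ bb v (vc 128) = 1 ∧ v ≠ vc 1 ∧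
        v ≠ vc 1 + vc 2 + vc 6) (m := 2) (by decide +kernel) fun g hg =>
        ⟨h.m1 hg.1.1.1.1.1 hg.1.1.1.1.2 (h.fl (1, 53, _) (by repeat constructor)), h.b hg.1.1.1.1.1 hg.1.1.2 _,
          h.b hg.1.1.1.1.1 hg.1.2 _, h.ne hg.1.1.1.1.2 (by decide), h.ne (by
            rw [smul_add, smul_add, hg.1.1.1.1.2, hg.1.1.1.2, hg.2]) (by decide)⟩
  have s7 : K ⊓ stabilizer L8 (vc 1) ⊓ stabilizer L8 (vc 2) ⊓ stabilizer L8 (vc 64) ⊓ stabilizer L8 (vc 128) ⊓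
      stabilizer L8 (vc 6) ⊓ stabilizer L8 (vc 53) = ⊥ := eq_bot_iff.2 fun g ⟨⟨⟨⟨⟨⟨g0, g1⟩, g2⟩, g3⟩, g4⟩, g5⟩, g6⟩ => by
    have u : ∀ x < 256, ∀ y ∈ [15, 33], (bb (vc x) (vc 15) = 0 ∧ bb (vc x) (vc 12) = 0 ∧ bb (vc x) (vc 33) = 0) →
        (∀ f ∈ [1, 2, 64, 128, 6, 53], bb (vc x) (vc f) = bb (vc y) (vc f)) → vc x = vc y := by decide +kernel
    have u' : ∀ x < 256, (∀ f ∈ [1, 2, 64, 128, 6, 53, 15, 33], bb (vc x) (vc f) = 0) → vc x = 0 := by decide +kernel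
    have f1 : ∀ f ∈ [1, 2, 64, 128, 6, 53], g • vc f = vc f := by simpa using ⟨g1, g2, g3, g4, g5, g6⟩
    have f2 : ∀ y ∈ [15, 33], Ln (vc 2) (vc y) → g • vc y = vc y := fun y hy l => by
      obtain ⟨x, x1, x2⟩ := vc_surj (g • vc y)
      rw [← x2]
      exact u x x1 y hy (x2 ▸ h.m2 g0 g2 l) fun f hf => x2 ▸ h.b g0 (f1 f hf) _
    have f3 : ∀ f ∈ [1, 2, 64, 128, 6, 53, 15, 33], g • vc f = vc f := by
      simpa using ⟨g1, g2, g3, g4, g5, g6, f2 15 (by simp) (h.fl (2, 15, _) (by repeat constructor)),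
        f2 33 (by simp) (h.fl (2, 33, _) (by repeat constructor))⟩
    refine Units.ext (Matrix.toLin'.injective (LinearMap.ext fun v => ?_))
    obtain ⟨x, x1, x2⟩ := vc_surj (g • v - v)
    have := u' x x1 fun f hf => by
      rw [x2, show bb (g • v - v) (vc f) = bb (g • v) (vc f) - bb v (vc f) by simp only [bb, Pi.sub_apply]; ring,
        h.b g0 (f3 f hf), sub_self]
    rw [x2, sub_eq_zero] at this
    simpa using (show g.1 *ᵥ v = v from this)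
  rw [s7, card_bot] at s6
  omega

theorem iso : Nonempty (K ≃* Matrix.symplecticGroup (Fin 3) (ZMod 2)) := by
  obtain ⟨P, hP⟩ := rg_of k1.1
  have a : LL 6 ≤ K.map (MulAut.conj P).toMonoidHom := (closure_le _).2 (by
    rintro _ ⟨i, hi, rfl⟩
    obtain ⟨g, g1, g2⟩ := h.word (k1.2 i hi).1
    exact ⟨g, g1, RG.eq ((mul_assoc P g P⁻¹).symm ▸ rg_cd.mul' hP (rg_cd.mul' g2 (rg_cd.inv' hP rfl k1.1)))
      ((k1.2 i hi).2.symm ▸ rg_sL i)⟩)
  have e := K.equivMapOfInjective (MulAut.conj P).toMonoidHom (MulAut.conj P).injective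
  rw [← eq_of_le_of_card_ge a (by rw [← Nat.card_congr e.toEquiv, card6]; exact h.card_le)] at e
  exact ⟨e.trans iso6.some⟩

end LS

end CF.WX
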