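import Cfsg.Agent.WX.CoF
import Cfsg.Agent.WX.CoM
import Cfsg.Agent.WX.Three
import Cfsg.Agent.Recog.X8.C2G

/-! Meeting lines: the second Conway group. -/

set_option autoImplicit false
set_option linter.unusedSectionVars false
set_option maxRecDepth 100000

namespace CF.WX

open Cfsg Subgroup CF.Loc CF.Even CF.LX Module CF.X8 CF.J4 CF.Comp CF.Schur.Pc Matrix

variable {G : Type*} [Group G] [Finite G] {V : Type} [AddCommGroup V] [Module (ZMod 2) V] [Finite V]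
variable {D : Set G} {Q : G → Subgroup G} {n : ℕ} {z t s r g : G} {u v w x y : V}

/-- the Siegel map in coordinates -/
def sg (a c : ℕ) (v : V8) : V8 := bb (vc a) v • vc c + bb (vc c) v • vc a

theorem k3 : ∀ x < 256, bm 8 (nth (mo 8) GS 0) *ᵥ vc x = sg 1 2 (vc x) + vc x ∧
    bm 8 (nth (mo 8) GS 1) *ᵥ vc x = sg 64 128 (vc x) + vc x ∧ bm 8 (nth (mo 8) GS 2) *ᵥ vc x = sg 1 4 (vc x) + vc x ∧
    bm 8 (pe GS [4, 2, 4]) *ᵥ vc x = sg 1 6 (vc x) + vc x ∧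
    bm 8 (nth (mo 8) GS 3) *ᵥ vc x = sg 2 4 (vc x) + sg 1 8 (vc x) + vc x ∧
    bm 8 (nth (mo 8) GS 4) *ᵥ vc x = sg 2 16 (vc x) + sg 1 32 (vc x) + vc x := by decide +kernel

theorem k4 : mm 8 (nth (mo 8) GS 4) (mm 8 (pe GS [4, 2, 4]) (nth (mo 8) GS 4)) = nth (mo 8) GS 2 ∧
    (∀ x < 256, (∀ i : Fin 8, bb (vc x) (vc (2 ^ i.1)) = 0) → vc x = 0) ∧
    (∀ i : Fin 8, vc (2 ^ i.1) = Pi.single i 1) ∧ vc 6 = vc 4 + vc 2 := by decide +kernel

namespace Fm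

variable {P : Subgroup G} {M : Md P z V} {e : Fin 8 → V} (F : Fm M t e)
include F

theorem lb (u v : V8) : M.b (Fintype.linearCombination (ZMod 2) e u) (Fintype.linearCombination (ZMod 2) e v) =
    bb u v := by
  simp only [Fintype.linearCombination_apply, Fin.sum_univ_eight, map_add, map_smul, LinearMap.add_apply,
    LinearMap.smul_apply, F.b]
  simp [gm, bb]
  ring

theorem lq (v : V8) : M.q (Fintype.linearCombination (ZMod 2) e v) = qq v := by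
  have qs : ∀ (a : ZMod 2) i, M.q (a • e i) = 0 := fun a i => by
    rcases zmod_two_cases a with rfl | rfl <;> simp [M.q0, F.q]
  simp only [Fintype.linearCombination_apply, Fin.sum_univ_eight, M.add, qs, map_add, map_smul, LinearMap.add_apply,
    LinearMap.smul_apply, F.b]
  simp [gm, qq]
  ring

theorem exists_equiv (c : Nat.card V = 2 ^ 8) : ∃ φ : V8 ≃ₗ[ZMod 2] V, (∀ u v, M.b (φ u) (φ v) = bb u v) ∧
    (∀ v, M.q (φ v) = qq v) ∧ ∀ i : Fin 8, φ (vc (2 ^ i.1)) = e i := by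
  have a : Function.Injective (Fintype.linearCombination (ZMod 2) e) := (injective_iff_map_eq_zero _).2 fun v k => by
    obtain ⟨x, x1, rfl⟩ := vc_surj v
    exact k4.2.1 x x1 fun i => by rw [← F.lb, k]; simp
  refine ⟨.ofBijective _ (a.bijective_of_nat_card_le (by simp [c])), F.lb, F.lq, fun i => ?_⟩
  rw [k4.2.2.1]
  simp

end Fm

theorem TI.sp6 (h : TI D Q n z t) (M : Md (Q z) z V) (c : Nat.card V = 2 ^ 8) {e : Fin 8 → V} (F : Fm M t e) :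
    ∃ f : 𝐂₁(z) →* Matrix.symplecticGroup (Fin 3) (ZMod 2), Function.Surjective f ∧ ∀ g, f g = 1 ↔ g.1 ∈ Q z := by
  obtain ⟨φ, hb, hq, he⟩ := F.exists_equiv c
  let ψ : Module.End (ZMod 2) V ≃* Matrix (Fin 8) (Fin 8) (ZMod 2) :=
    (φ.symm.conjRingEquiv.trans LinearMap.toMatrixAlgEquiv'.toRingEquiv).toMulEquiv
  let ρ : 𝐂₁(z) →* L8 := (ψ.toMonoidHom.comp M.en).toHomUnits
  have a : ∀ g v, φ (ρ g • v) = M.T g (φ v) + φ v := fun g v => by
    show φ (LinearMap.toMatrixAlgEquiv' (φ.symm.conjRingEquiv (M.en g)) *ᵥ v) = _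
    rw [← Matrix.toLinAlgEquiv'_apply, Matrix.toLinAlgEquiv'_toMatrixAlgEquiv']
    exact φ.apply_symm_apply _
  have S : ∀ a c v, φ (sg a c v) = M.S (φ (vc a)) (φ (vc c)) (φ v) := fun a c v => by simp [sg, Md.S, hb]
  have R : ∀ {g} (k : g * z = z * g) {x}, (∀ y < 256, φ (bm 8 x *ᵥ vc y) = M.T g (φ (vc y)) + φ (vc y)) →
      ∃ y ∈ ρ.range, RG y x := fun {g} k x l => ⟨_, ⟨⟨g, mem_c1.2 k⟩, rfl⟩, Matrix.toLin'.injective
        (LinearMap.ext fun v => (vc_surj v).elim fun y m => m.2 ▸ φ.injective ((a _ _).trans (l y m.1).symm))⟩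
  have e0 := he 0
  have e1 := he 1
  have e2 := he 2
  have e3 := he 3
  have e4 := he 4
  have e5 := he 5
  have e6 := he 6
  have e7 := he 7
  have g4 : ∃ y ∈ ρ.range, RG y (nth (mo 8) GS 4) := F.fc.elim fun g k => R k.1 fun y l => by
    rw [(k3 y l).2.2.2.2.2, map_add, map_add, S, S, k.2, ← e0, ← e1, ← e4, ← e5]; rfl
  refine (LS.iso (K := ρ.range) (Ln := fun l y => ∃ r, TI D Q n z r ∧ (∃ u, M.T r u = φ l) ∧ ∃ u, M.T r u = φ y)
    ⟨?_, ?_, ?_, ⟨t, h, e0 ▸ F.l1, e1 ▸ F.l2⟩, fun i hi => ?_⟩).elim fun i =>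
      ⟨i.toMonoidHom.comp ρ.rangeRestrict, i.surjective.comp ρ.rangeRestrict_surjective, fun g => ?_⟩
  rotate_right
  · rw [← M.en_eq_one, ← map_eq_one_iff ψ ψ.injective]
    exact (map_eq_one_iff i i.injective).trans (Subtype.ext_iff.trans Units.ext_iff)
  · rintro _ ⟨g, rfl⟩ v
    rw [← hq, a, M.Tq (mem_c1.1 g.2), hq]
  · rintro _ ⟨g, rfl⟩ l y ⟨r, k, ⟨u, m⟩, w, m'⟩
    have c := mem_c1.1 g.2
    exact ⟨_, k.conjl c, ⟨_, by rw [M.Tcj c k.tz, m, a]⟩, _, by rw [M.Tcj c k.tz, m', a]⟩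
  · rintro l y y' ⟨r, k, ⟨u, m⟩, w, m'⟩ ⟨r', k', ⟨u', p⟩, w', p'⟩ o
    rw [← hb, ← hb, ← m, ← m', ← p']
    refine ⟨k.bL M _ _, ?_⟩
    by_cases q : r' * r ∈ Q z
    · have := M.TQl q k.tz w'
      rw [mul_assoc, k.r.zz, mul_one] at this
      rw [this]; exact k.bL M _ _
    · exact k.meet_perp M k' (u := u) (by rw [m]; simpa using o) (p.trans m.symm) q _ _
  · interval_cases i
    · exact R h.tz fun y l => by rw [(k3 y l).1, map_add, S, F.ft, ← e0, ← e1]; rfl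
    · exact F.fr.elim fun g k => R k.1 fun y l => by rw [(k3 y l).2.1, map_add, S, k.2, ← e6, ← e7]; rfl
    · obtain ⟨s, k, β, m⟩ := F.fs
      rcases zmod_two_cases β with rfl | rfl
      · exact R k fun y l => by rw [(k3 y l).2.2.1, map_add, S, m, zero_smul, add_zero, ← e0, ← e2]; rfl
      · obtain ⟨y, y1, y2⟩ := g4
        obtain ⟨x, x1, x2⟩ := R k (x := pe GS [4, 2, 4]) fun y l => by
          rw [(k3 y l).2.2.2.1, map_add, S, m, one_smul, k4.2.2.2, map_add, ← e0, ← e1, ← e2]; rfl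
        exact ⟨_, mul_mem y1 (mul_mem x1 y1), k4.1 ▸ rg_cd.mul' y2 (rg_cd.mul' x2 y2)⟩
    · exact F.fb.elim fun g k => R k.1 fun y l => by
        rw [(k3 y l).2.2.2.2.1, map_add, map_add, S, S, k.2, ← e0, ← e1, ← e2, ← e3]; rfl
    · exact g4

theorem conway (l : LQ 𝐎[2](𝐂₁(z)) z) (O : oddCore G = ⊥) (hz : z ∉ center G) (c : Nat.card 𝐎[2](𝐂₁(z)) = 2 ^ 9)
    (f : 𝐂₁(z) →* Matrix.symplecticGroup (Fin 3) (ZMod 2)) (sj : Function.Surjective f)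
    (k : ∀ g, f g = 1 ↔ g.1 ∈ 𝐎[2](𝐂₁(z))) : IsSimpleGroup G ∧ Spor.IsoCo2 G := by
  have := CF.Solv.pCore_characteristic 2 𝐂₁(z)
  have e : ∀ g, g ∈ pCore 2 𝐂₁(z) ↔ g.1 ∈ 𝐎[2](𝐂₁(z)) := fun g => (mem_map_iff_mem (subtype_injective _)).symm
  have i : pCore 2 𝐂₁(z) ≃* 𝐎[2](𝐂₁(z)) := (pCore 2 𝐂₁(z)).equivMapOfInjective _ (𝐂₁(z)).subtype_injective
  have Z : center G = ⊥ := by
    rcases Nat.even_or_odd (Nat.card (center G)) with o | o
    · exact absurd (l.mem_of_even o.two_dvd le_normalizer_of_normal) hz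
    · exact le_bot_iff.1 (O ▸ CF.Char.le_oddCore o)
  obtain ⟨φ⟩ := X8.co2 O Z (orderOf_eq_prime ((pow_two z).trans l.zz) l.z_ne)
    (isExtraspecial_of_equiv l.isExtraspecial i.symm) ((Nat.card_congr i.toEquiv).trans c)
    (fun g hg => (e g).2 (l.cen fun y hy => congrArg Subtype.val (hg ⟨y, l.le_c1 hy⟩ ((e _).2 hy))))
    ((QuotientGroup.quotientMulEquivOfEq (Subgroup.ext fun g => (e g).trans (k g).symm)).trans
      (QuotientGroup.quotientKerEquivOfSurjective f sj))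
  have := Leech.simple_Co2
  exact ⟨φ.isSimpleGroup, ⟨φ.trans Leech.Co2Equiv⟩⟩

/-- meeting lines give the symplectic group -/
theorem sp6 (k : CP (conjugatesOf z) Q n z t) (O2 : 𝐎[2](𝐂₁(z)) ≤ Q z) (N : ¬ NA (conjugatesOf z) Q n) : n = 4 ∧
    ∃ f : 𝐂₁(z) →* Matrix.symplecticGroup (Fin 3) (ZMod 2), Function.Surjective f ∧ ∀ g, f g = 1 ↔ g.1 ∈ Q z := by
  obtain rfl := na_or.resolve_left N
  refine ⟨rfl, ?_⟩
  unfold NA at N
  push Not at N
  obtain ⟨z', t, s, h, h', e, e1, e2, n1, l, o⟩ := N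
  obtain ⟨g, rfl⟩ := isConj_iff.1 (IsConj.symm h.hz)
  obtain ⟨M⟩ := k.md k.hz
  have p := h.conj g
  have p' := h'.conj g
  have f1 := h.cq' h.hz g e1
  have f2 := h.cq' h.ht g e2
  obtain ⟨u, hu⟩ := p.E_range M p.hl.1 f1 f2
  obtain ⟨u', hu'⟩ : ∃ u', M.T (g * s * g⁻¹) u' = M.π (g * e * g⁻¹) :=
    l.elim (fun l => p'.E_range M p'.hl.1 f1 (h.cq' h'.ht g l)) fun l =>
      M.zmul f1 ▸ p'.E_range M p'.hl.1 (mul_mem p.l.mem f1) (conj_mul_conj g z' e ▸ h.cq' h'.ht g l)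
  obtain ⟨b, F⟩ := p.frame M O2 p' (fun c => n1 (conj_eq_one_iff.1 (p.E0 M f1 f2 (hu ▸ c)))) (hu'.trans hu.symm)
    fun m => o (by simpa [mul_assoc] using h.cq' p.hz g⁻¹ m)
  exact p.sp6 M (k.card_V k.hz M) F

end CF.WX
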